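import Cfsg.Agent.H691.M23.Choice
import Cfsg.Agent.H892.EP.Defs

/-!
# (M,23) of S4929: the frame of the proof (helper691)

`Late t` : the facts on the real irreducible characters of the Monster which are independent of the class `5A`;
`SecFacts` : the facts on the `11`- and `13`-sections; `evAt_of` : the conclusion.
-/

set_option autoImplicit false

open Cfsg
open Cfsg.Agent.Blocks.Basic Cfsg.Agent.Blocks.Local
open Cfsg.Agent.Characters.Core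
open scoped ComplexConjugate

namespace Cfsg.Agent.H691.M23

universe v

open H924.M23 (Ty cA cD cN cT Facts Sec11 Sec13)

/-- real valued -/
def RV {G : Type v} [Group G] (X : IrrCharacter G) : Prop := ∀ g, conj ((X : G → ℂ) g) = (X : G → ℂ) g

/-- the facts on a real irreducible character `X`, `d = X 1`, `b = X t`, `t` in the class `2A` -/
structure Late {G : Type v} [Group G] (t : G) : Prop where
  two : ∀ (X : IrrCharacter G) {d b : ℤ}, (X : G → ℂ) 1 = d → (X : G → ℂ) t = b → (4096 : ℤ) ∣ d - b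
  sq : ∀ (X : IrrCharacter G) {d b : ℤ}, RV X → (X : G → ℂ) 1 = d → (X : G → ℂ) t = b →
    cA * b ^ 2 ≤ d * (d + 27143910000 * |b| + 8 * 10 ^ 28)
  t17 : ∀ (X : IrrCharacter G) {d b : ℤ}, RV X → (X : G → ℂ) 1 = d → (X : G → ℂ) t = b →
    Ty 17 d b 0 0 ∨ Ty 17 d b 1 1 ∨ Ty 17 d b 6 2 ∨ Ty 17 d b 6 (-2) ∨ Ty 17 d b 7 (-1) ∨ Ty 17 d b 8 0 ∨
      Ty 17 d b 3 (-1)
  t19 : ∀ (X : IrrCharacter G) {d b : ℤ}, RV X → (X : G → ℂ) 1 = d → (X : G → ℂ) t = b →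
    Ty 19 d b 0 0 ∨ Ty 19 d b 1 1 ∨ Ty 19 d b 4 0 ∨ Ty 19 d b 5 1 ∨ Ty 19 d b 3 (-1) ∨ Ty 19 d b 6 (-2)
  t23 : ∀ (X : IrrCharacter G) {d b : ℤ}, RV X → (X : G → ℂ) 1 = d → (X : G → ℂ) t = b →
    Ty 23 d b 0 0 ∨ Ty 23 d b 1 1 ∨ Ty 23 d b 1 (-1) ∨ Ty 23 d b 2 0 ∨ Ty 23 d b 3 1 ∨ Ty 23 d b 3 (-1)
  t31 : ∀ (X : IrrCharacter G) {d b : ℤ}, RV X → (X : G → ℂ) 1 = d → (X : G → ℂ) t = b →
    Ty 31 d b 0 0 ∨ Ty 31 d b 1 1 ∨ Ty 31 d b 1 (-1) ∨ Ty 31 d b 2 0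
  t47 : ∀ (X : IrrCharacter G) {d b : ℤ}, RV X → (X : G → ℂ) 1 = d → (X : G → ℂ) t = b →
    Ty 47 d b 0 0 ∨ Ty 47 d b 1 1 ∨ Ty 47 d b 1 (-1)
  t29 : ∀ (X : IrrCharacter G) {d b : ℤ}, RV X → (X : G → ℂ) 1 = d → (X : G → ℂ) t = b →
    (29 : ℤ) ∣ d ∨ (29 : ℤ) ∣ d - 1 ∨ (29 : ℤ) ∣ d + 1 ∨ (29 : ℤ) ∣ d - 2 ∨ (29 : ℤ) ∣ d + 2
  t41 : ∀ (X : IrrCharacter G) {d b : ℤ}, RV X → (X : G → ℂ) 1 = d → (X : G → ℂ) t = b →
    (41 : ℤ) ∣ d ∨ (41 : ℤ) ∣ d - 1 ∨ (41 : ℤ) ∣ d + 1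
  t59 : ∀ (X : IrrCharacter G) {d b : ℤ}, RV X → (X : G → ℂ) 1 = d → (X : G → ℂ) t = b →
    (59 : ℤ) ∣ d ∨ (59 : ℤ) ∣ d - 1 ∨ (59 : ℤ) ∣ d + 1
  t71 : ∀ (X : IrrCharacter G) {d b : ℤ}, RV X → (X : G → ℂ) 1 = d → (X : G → ℂ) t = b →
    (71 : ℤ) ∣ d ∨ (71 : ℤ) ∣ d - 1 ∨ (71 : ℤ) ∣ d + 1

/-- the facts on the sections, for a real irreducible character which is `c θ` on `u T` -/
def SecFacts {G : Type v} [Group G] (u : G) (T : Subgroup G) (θ : T → ℂ) (t : T) : Prop :=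
  ∀ (X : IrrCharacter G) {d b w c : ℤ}, RV X → (X : G → ℂ) 1 = d → (X : G → ℂ) t = b → (c = 1 ∨ c = -1) →
    centralChar (X : G → ℂ) (t : G) = w → (∀ s : T, ¬ 5 ∣ orderOf s → (X : G → ℂ) (u * s) = c * θ s) →
    ∃ n₁ n₂ z : ℤ, Sec11 c d b w n₁ ∧ Sec13 d b n₂ z ∧
      n₁ * 169 * 52728 + n₂ * 121 * 52728 + z ^ 2 * 121 * 169 ≤ 9 * 11 * 169 * 52728

/-- `(B23)` -/
def BTwentyThree {G : Type v} [Group G] (t : G) : Prop :=
  ∀ (M : Ideal AlgInt), IsPModular 23 M → ∀ (X : IrrCharacter G) {d b : ℤ}, (X : G → ℂ) 1 = d →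
    (X : G → ℂ) t = b → ¬ (23 : ℤ) ∣ d → (23 : ℤ) ∣ d - b → X ∈ principalBlock M G

/-- **The frame of (M,23).** -/
theorem evAt_of {G : Type v} [Group G] [Finite G] [Fintype G] {u : G} {C T : Subgroup G} [Fintype T] {θ : T → ℂ}
    {t y : T} (F : Five u C T θ t y) {V : G → ℂ} (hV : IsCharacter G V) (hV1 : V 1 = 196883)
    (hVr : ∀ g, conj (V g) = V g) {m : ℤ}
    (hm : classInner (fun s : T => (V (u * s) ^ 4 + 3 * V ((u * s) ^ 2) ^ 2 - 4 * (V (u * s) * V ((u * s) ^ 3))) / 12)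
      θ = m) (hodd : Odd m)
    (sieve : ∀ d b w c : ℤ, Facts d b w c → c = 1 ∧ d = cT ∧ b = 11487099325000)
    (L : Late (t : G)) (S : SecFacts u T θ t) (B : BTwentyThree (t : G)) : H892.EP.EvAt 23 G := by
  obtain ⟨M₅, hM₅⟩ := Cfsg.Agent.Blocks.ExistsModular.exists_isPModular Nat.prime_five
  obtain ⟨X, d, b, w, c, hXr, hd, hb, hc, hd0, hdD, h5, hw, hwd, hw5, hval⟩ := exists_X F hM₅ hV hV1 hVr hm hodd
  have hF : Facts d b w c :=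
    { hc := hc
      pos := hd0
      le := hdD
      five := h5
      om := hwd
      om5 := hw5
      two := L.two X hd hb
      sq := L.sq X hXr hd hb
      t17 := L.t17 X hXr hd hb
      t19 := L.t19 X hXr hd hb
      t23 := L.t23 X hXr hd hb
      t31 := L.t31 X hXr hd hb
      t47 := L.t47 X hXr hd hb
      t29 := L.t29 X hXr hd hb
      t41 := L.t41 X hXr hd hb
      t59 := L.t59 X hXr hd hb
      t71 := L.t71 X hXr hd hb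
      sec := S X hXr hd hb hc hw hval }
  obtain ⟨-, rfl, rfl⟩ := sieve d b w c hF
  intro M hM
  refine ⟨X, B M hM X hd hb (by unfold cT; decide) (by unfold cT; decide), ?_⟩
  have h1 : charDegree (X : G → ℂ) = 77316619273928125000 := by
    apply charDegree_of_eq
    rw [hd]
    unfold cT
    push_cast
    rfl
  rw [h1]
  decide

end Cfsg.Agent.H691.M23
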