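import Cfsg.Agent.H591.M23.Blk
import Cfsg.Agent.H924.M23.Facts
import Cfsg.Agent.H641.M23.Pi
import Cfsg.Agent.H641.M23.Parity
import Cfsg.Agent.S0902
import Cfsg.Agent.S0944

/-!
# (M,23) of S4929: the choice of the real character `X` (helper691)

`Five u C T θ t y` : the data of the class `5A` of the Monster with the character `θ` of `HN`;
`exists_X` : a real irreducible character `X` in the block of `u`, `θ`, a constituent of `S_(2,2)(V)`, with the first
facts of `H924.M23.Facts`.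
-/

set_option autoImplicit false

open Cfsg
open Cfsg.Agent.Blocks.Basic Cfsg.Agent.Blocks.Local
open Cfsg.Agent.Characters.Core
open scoped ComplexConjugate

namespace Cfsg.Agent.H691.M23

universe v

/-- the data of the class `5A` -/
structure Five {G : Type v} [Group G] [Finite G] (u : G) (C T : Subgroup G) (θ : T → ℂ) (t y : T) : Prop where
  cardG : Nat.card G = 808017424794512875886459904961710757005754368000000000
  hyp : H591.M23.Blk.Hyp 5 u C T θ
  cardT : Nat.card T = 273030912000000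
  one : θ 1 = 2375000
  real : ∀ s, conj (θ s) = θ s
  ot : orderOf t = 2
  ct : Nat.card (Subgroup.centralizer ({(t : G)} : Set G)) = 8309562962452852382355161088000000
  num : Nat.card {s : T // IsConj (t : G) (s : G)} = 1539000
  val : ∀ s : T, IsConj (t : G) (s : G) → θ s = -1000
  oy : orderOf y = 11
  comm : Commute t y
  vy : θ y = 1
  vty : θ (t * y) = 1

variable {G : Type v} [Group G] [Finite G]

/-- a rational number which is an algebraic integer is an integer -/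
theorem exists_int_of {z : ℂ} {a b : ℤ} (hb : b ≠ 0) (h : z * b = a) (hz : IsIntegral ℤ z) : ∃ n : ℤ, z = n := by
  have h1 : z = ((a / b : ℚ) : ℂ) := by
    push_cast
    rw [eq_div_iff (by exact_mod_cast hb)]
    exact h
  rw [h1] at hz ⊢
  have h2 : IsIntegral ℤ (a / b : ℚ) := by
    have h3 := hz
    exact (isIntegral_algHom_iff (algebraMap ℚ ℂ).toIntAlgHom (algebraMap ℚ ℂ).injective).1 h3
  obtain ⟨n, hn⟩ := IsIntegrallyClosed.isIntegral_iff.1 h2
  refine ⟨n, ?_⟩
  rw [← hn]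
  simp

omit [Finite G] in
theorem index_eq (g : G) {n : ℕ} (hn : Nat.card (Subgroup.centralizer ({g} : Set G)) = n) {m : ℕ}
    (hm : n * m = Nat.card G) (h0 : n ≠ 0) : (Subgroup.centralizer ({g} : Set G)).index = m := by
  have h1 := Subgroup.card_mul_index (Subgroup.centralizer ({g} : Set G))
  rw [hn, ← hm] at h1
  exact Nat.eq_of_mul_eq_mul_left (Nat.pos_of_ne_zero h0) h1

section

variable {u : G} {C T : Subgroup G} {θ : T → ℂ} {t y : T} {X : IrrCharacter G} {d b c : ℤ}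

/-- `om` -/
theorem exists_om (F : Five u C T θ t y) (hd : (X : G → ℂ) 1 = d) (hd0 : 0 < d) (hb : (X : G → ℂ) t = b) :
    ∃ w : ℤ, centralChar (X : G → ℂ) (t : G) = w ∧ w * d = H924.M23.cA * b := by
  have h1 : (Subgroup.centralizer ({(t : G)} : Set G)).index = 97239461142009186000 :=
    index_eq _ F.ct (by rw [F.cardG]) (by norm_num)
  have h2 : centralChar (X : G → ℂ) (t : G) * d = ((H924.M23.cA * b : ℤ) : ℂ) := by
    unfold centralChar
    have h0 : (d : ℂ) ≠ 0 := by exact_mod_cast hd0.ne'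
    rw [h1, hd, hb, div_mul_cancel₀ _ h0]
    unfold H924.M23.cA
    push_cast
    ring
  obtain ⟨w, hw⟩ := exists_int_of hd0.ne' h2 (Cfsg.Agent.S0902.isIntegral_centralChar X (t : G))
  refine ⟨w, hw, ?_⟩
  rw [hw] at h2
  exact_mod_cast h2

theorem five_index (F : Five u C T θ t y) :
    (Subgroup.centralizer ({u} : Set G)).index = 591887137522737993774463094465809612800 := by
  have h0 : Nat.card (Subgroup.centralizer ({u} : Set G)) = 1365154560000000 := by
    rw [← F.hyp.cent, F.hyp.card, F.cardT]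
  exact index_eq _ h0 (by rw [F.cardG]) (by norm_num)

/-- `five` -/
theorem exists_five (F : Five u C T θ t y) {M : Ideal AlgInt} (hM : IsPModular 5 M) (hd : (X : G → ℂ) 1 = d)
    (hd0 : 0 < d) (hc : c = 1 ∨ c = -1) (hu : (X : G → ℂ) u = c * 2375000)
    (h4 : MemLocalIdeal M (((5 : ℕ) : ℂ) - 1 - centralChar (X : G → ℂ) u)) :
    ∃ v : ℤ, v * d = H924.M23.cN ∧ (5 : ℤ) ∣ v + c := by
  have hcc : c * c = 1 := by rcases hc with rfl | rfl <;> norm_num
  have h2 : centralChar (X : G → ℂ) u * d = ((c * H924.M23.cN : ℤ) : ℂ) := by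
    unfold centralChar
    have h0 : (d : ℂ) ≠ 0 := by exact_mod_cast hd0.ne'
    rw [five_index F, hd, hu, div_mul_cancel₀ _ h0]
    have : H924.M23.cN = 591887137522737993774463094465809612800 * 2375000 := by decide +kernel
    rw [this]
    push_cast
    ring
  obtain ⟨k, hk⟩ := exists_int_of hd0.ne' h2 (Cfsg.Agent.S0902.isIntegral_centralChar X u)
  rw [hk] at h2 h4
  have h5 : k * d = c * H924.M23.cN := by exact_mod_cast h2
  have h6 : (((5 : ℕ) : ℂ) - 1 - (k : ℂ)) = ((4 - k : ℤ) : ℂ) := by push_cast; ring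
  rw [h6, memLocalIdeal_intCast_iff hM] at h4
  refine ⟨c * k, by rw [mul_assoc, h5, ← mul_assoc, hcc, one_mul], ?_⟩
  have h7 : c * k + c = -(c * (4 - k)) + 5 * c := by ring
  rw [h7]
  exact dvd_add (dvd_neg.2 (Dvd.dvd.mul_left h4 c)) (dvd_mul_right _ _)

/-- `om5` -/
theorem om_five (F : Five u C T θ t y) {M : Ideal AlgInt} (hM : IsPModular 5 M) {w : ℤ}
    (hw : centralChar (X : G → ℂ) (t : G) = w)
    (h4 : MemLocalIdeal M (∑ᶠ s ∈ {s : T | IsConj (t : G) (s : G)}, θ s / θ 1 - centralChar (X : G → ℂ) (t : G))) :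
    (5 : ℤ) ∣ w - 2 := by
  have h1 : ∑ᶠ s ∈ {s : T | IsConj (t : G) (s : G)}, θ s / θ 1 = ((-648 : ℤ) : ℂ) := by
    classical
    have h2 : ∑ᶠ s ∈ {s : T | IsConj (t : G) (s : G)}, θ s / θ 1 =
        ∑ᶠ s ∈ {s : T | IsConj (t : G) (s : G)}, ((-1000 : ℂ) / 2375000) := by
      refine finsum_mem_congr rfl fun s hs => ?_
      rw [F.val s hs, F.one]
    rw [h2, finsum_mem_eq_finite_toFinset_sum _ (Set.toFinite _), Finset.sum_const, nsmul_eq_mul]
    have h3 : (Set.toFinite {s : T | IsConj (t : G) (s : G)}).toFinset.card = 1539000 := by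
      rw [← F.num, ← Set.ncard_eq_toFinset_card, ← Nat.card_coe_set_eq]
      rfl
    rw [h3]
    norm_num
  rw [h1, hw] at h4
  have h6 : (((-648 : ℤ) : ℂ) - (w : ℂ)) = ((-648 - w : ℤ) : ℂ) := by push_cast; ring
  rw [h6, memLocalIdeal_intCast_iff hM] at h4
  omega

end

/-- **The choice of `X`.** -/
theorem exists_X [Fintype G] {u : G} {C T : Subgroup G} [Fintype T] {θ : T → ℂ} {t y : T} (F : Five u C T θ t y)
    {M : Ideal AlgInt} (hM : IsPModular 5 M)
    {V : G → ℂ} (hV : IsCharacter G V) (hV1 : V 1 = 196883) (hVr : ∀ g, conj (V g) = V g) {m : ℤ}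
    (hm : classInner (fun s : T => (V (u * s) ^ 4 + 3 * V ((u * s) ^ 2) ^ 2 - 4 * (V (u * s) * V ((u * s) ^ 3))) / 12)
      θ = m) (hodd : Odd m) :
    ∃ (X : IrrCharacter G) (d b w c : ℤ), (∀ g, conj ((X : G → ℂ) g) = (X : G → ℂ) g) ∧
      (X : G → ℂ) 1 = d ∧ (X : G → ℂ) t = b ∧ (c = 1 ∨ c = -1) ∧ 0 < d ∧ d ≤ H924.M23.cD ∧
      (∃ v : ℤ, v * d = H924.M23.cN ∧ (5 : ℤ) ∣ v + c) ∧ centralChar (X : G → ℂ) (t : G) = w ∧
      w * d = H924.M23.cA * b ∧ (5 : ℤ) ∣ w - 2 ∧
      (∀ s : T, ¬ 5 ∣ orderOf s → (X : G → ℂ) (u * s) = c * θ s) := by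
  have hp5 : Fact (Nat.Prime 5) := ⟨Nat.prime_five⟩
  obtain ⟨B, θ', a, -, -, -, -, -, ha1, ha0, ha, hval, -, hconj, h4, -⟩ := H591.M23.Blk.exists_blk hM F.hyp
  have hΦ := H641.M23.isCharacter_schur22 hV
  obtain ⟨X, hXr, hXo, -, hXd, -⟩ := H641.M23.exists_real_odd ha F.real hΦ (fun g => by
    simp only [map_div₀, map_sub, map_add, map_mul, map_pow, hVr, map_ofNat]) hm hodd
  have hXB : X ∈ B := by
    by_contra h
    rw [ha0 X h] at hXo
    exact (by decide : ¬ Odd (0 : ℤ)) hXo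
  obtain ⟨b, hb⟩ : ∃ b : ℤ, (X : G → ℂ) t = b := by
    obtain ⟨n, hn, -⟩ := Cfsg.Agent.S0944.result X (t : G) (by rw [Subgroup.orderOf_coe, F.ot])
    exact ⟨n, hn⟩
  have hd : (X : G → ℂ) 1 = ((charDegree (X : G → ℂ) : ℤ) : ℂ) := by
    rw [irr_one_eq_charDegree X.2]
    push_cast
    rfl
  have hd0 : (0 : ℤ) < (charDegree (X : G → ℂ) : ℤ) := by exact_mod_cast charDegree_pos X.2
  obtain ⟨w, hw, hwd⟩ := exists_om F hd hd0 hb
  have h1reg : ¬ 5 ∣ orderOf (1 : T) := by rw [orderOf_one]; norm_num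
  have hu : (X : G → ℂ) u = ((a X : ℤ) : ℂ) * 2375000 := by
    have h1 := hval X hXB 1 h1reg
    rw [F.one] at h1
    rw [← h1]
    simp
  refine ⟨X, charDegree (X : G → ℂ), b, w, a X, hXr, hd, hb, ha1 X hXB, hd0, ?_,
    exists_five F hM hd hd0 (ha1 X hXB) hu (h4 X hXB), hw, hwd,
    om_five F hM hw (hconj X hXB t (by rw [Subgroup.orderOf_coe, F.ot]; norm_num)), hval X hXB⟩
  have h2 : charDegree (fun g => (V g ^ 4 + 3 * V (g ^ 2) ^ 2 - 4 * (V g * V (g ^ 3))) / 12) =
      125213636056146619086 := by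
    apply charDegree_of_eq
    simp only [one_pow, hV1]
    norm_num
  rw [h2] at hXd
  unfold H924.M23.cD
  exact_mod_cast hXd

end Cfsg.Agent.H691.M23
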