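import Cfsg.Agent.H691.M23.ThetaOf
import Cfsg.Agent.H651.HNF.Final

/-!
# (M,23) of S4929 / S4928: the principal 23-block of the Monster contains a character of even degree

Pieces of helper66, 136, 164, 266, 280, 436, 591, 592, 599, 616, 641, 651, 653, 657, 680, 717, 741, 792, 816, 875,
892, 924, 981, 994 and others; assembly helper691.
-/

set_option autoImplicit false

universe u

open Cfsg

namespace Cfsg.Agent.H691.M23

/-- **The principal 23-block of the Monster contains a character of even degree.** -/
theorem evM_23 {K : Type u} [Group K] [Finite K] (h : Spor.IsoM K) : H892.EP.EvAt 23 K :=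
  evM_23_of (theta_target_of H651.HNF.table) h

end Cfsg.Agent.H691.M23
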