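import Cfsg.Agent.H691.M23.FiveOf
import Cfsg.Agent.H691.M23.Main
import Cfsg.Agent.H792.M23.Fields
import Cfsg.Agent.H741.M23.Q
import Cfsg.Agent.H816.M23.Main
import Cfsg.Agent.H816.IMM
import Cfsg.Agent.H657.M13.Sec
import Cfsg.Agent.H924.M23.Sieve
import Cfsg.Agent.H436.M23.BTw
import Cfsg.Agent.H875.M23.TraceChar
import Cfsg.Agent.H892.EP.Rows

/-!
# (M,23) of S4929, modulo the last pieces (helper691)
-/

set_option autoImplicit false
set_option maxRecDepth 100000

universe u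

open Cfsg
open Cfsg.Agent.Blocks.Basic Cfsg.Agent.Blocks.Local
open Cfsg.Agent.Characters.Core
open scoped ComplexConjugate

namespace Cfsg.Agent.H691.M23

open Cfsg.Agent.BpSpor.MBigModel (MG)
open Cfsg.Agent.H875.M23.TraceChar (chi chi_irr chi_one chi_rat)
open Cfsg.Agent.H994.M23.Fin (Out13)
open H924.M23 (Ty cA cD cN cT Facts Sec11 Sec13)

/-- the values of `θ` by the order and the value `V (u s)` -/
def FT (n : ℕ) (b : ℤ) : ℤ :=
  if n = 1 then 2375000
  else if n = 2 then (if b = 21 then -1000 else 600)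
  else if n = 3 then (if b = 7 then -190 else 80)
  else if n = 4 then (if b = 5 then 40 else 0)
  else if n = 6 then (if b = 3 then -10 else if b = -1 then -6 else 0)
  else if n = 7 then 5
  else if n = 9 then -1
  else if n = 11 then 1
  else if n = 12 then (if b = -1 then -2 else 0)
  else if n = 14 then 1
  else if n = 21 then -1
  else if n = 22 then 1
  else 0

/-- the output of the hub `[HN]` + `[BETA]` -/
def ThetaTarget : Prop :=
  ∃ (u : MG) (C T : Subgroup MG) (t y : T), H66.M23.Five.Local u C T t y ∧ ∀ [Fintype T],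
    ∃ (θ : T → ℂ) (F : ℕ → ℤ → ℤ), ThetaOf chi u T θ F ∧ F 1 133 = 2375000 ∧ F 2 21 = -1000 ∧ F 11 1 = 1 ∧
      F 22 (-1) = 1 ∧ chi u = 133 ∧ chi (u * t) = 21 ∧ chi (u * y) = 1 ∧ chi (u * (t * y : T)) = -1 ∧
      ∃ m : ℤ, Odd m ∧ classInner (fun s : T => (chi (u * s) ^ 4 + 3 * chi ((u * s) ^ 2) ^ 2 -
        4 * (chi (u * s) * chi ((u * s) ^ 3))) / 12) θ = m

theorem evMG_of (hT : ThetaTarget) : H892.EP.EvAt 23 MG := by
  classical
  have hfin : Finite MG := Cfsg.Agent.BpSpor.MBigModel.finite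
  have := Fintype.ofFinite MG
  obtain ⟨u, C, T, t, y, L, hθ0⟩ := hT
  have := Fintype.ofFinite T
  obtain ⟨θ, F, hθ, f1, f2, f3, f4, h1, h2, h3, h4, m, hodd, hm⟩ := hθ0
  have hV : IsCharacter MG chi := isIrr_isCharacter chi_irr
  have hcard : Nat.card MG = 808017424794512875886459904961710757005754368000000000 :=
    Cfsg.Agent.MonsterP.EquivOf.isM_model.2
  have F5 : Five u C T θ t y := five_of L hcard hV chi_rat hθ h1 f1 h2 f2 h3 f3 h4 f4
  have hreal : ∀ g, conj (chi g) = chi g := fun g => by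
    obtain ⟨q, hq⟩ := chi_rat g
    rw [hq]
    exact Complex.conj_ofReal q
  have hLate : Late (t : MG) := H792.M23.Ty.late L.ta
    (fun X _ _ hd hb => H741.M23.two_pow (isIrr_isCharacter X.2) L.ta hd hb)
    (fun X _ _ _ hd hb => H816.M23.Main.sq X.2 L.ta hd hb)
  exact evAt_of F5 hV chi_one hreal hm hodd (fun _ _ _ _ h => H924.M23.sieve h) hLate (H657.M13.secFacts F5)
    (H436.M23.BTw.b23 L.ta)

/-- **(M,23), modulo `ThetaTarget`.** -/
theorem evM_23_of (hT : ThetaTarget) {K : Type u} [Group K] [Finite K] (h : Spor.IsoM K) : H892.EP.EvAt 23 K := by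
  have hp : Fact (Nat.Prime 23) := ⟨by norm_num⟩
  have hfin : Finite MG := Cfsg.Agent.BpSpor.MBigModel.finite
  obtain ⟨e⟩ := H816.IMM.exists_equiv h
  exact (evMG_of hT).tr e.symm

end Cfsg.Agent.H691.M23
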