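import Cfsg.Agent.H66.M23.Five
import Cfsg.Agent.H691.M23.Choice
import Cfsg.Agent.H689.Rat
import Cfsg.Agent.Characters.GaloisBasic

/-!
# (M,23) of S4929: the structure `Five` from the local part and the character `θ` of `HN` (helper691)
-/

set_option autoImplicit false
set_option maxRecDepth 100000

open Cfsg
open Cfsg.Agent.Blocks.Basic Cfsg.Agent.Blocks.Local
open Cfsg.Agent.Characters.Core
open scoped ComplexConjugate

namespace Cfsg.Agent.H691.M23

open Cfsg.Agent.BpSpor.MBigModel (MG)

/-- a rational valued character is invariant under the powers prime to the order -/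
theorem rat_pow {G : Type*} [Group G] [Finite G] {V : G → ℂ} (hV : IsCharacter G V) (hr : ∀ g, ∃ q : ℚ, V g = q) {g : G}
    {m : ℕ} (hm : m.Coprime (orderOf g)) : V (g ^ m) = V g := by
  obtain ⟨m', h1, h2⟩ := Cfsg.Agent.H689.exists_coprime_lift (m := m) (a := orderOf g) (N := Nat.card G)
    Nat.card_pos.ne' (orderOf_dvd_natCard g) hm
  have h3 := (Cfsg.Agent.Characters.GaloisBasic.exists_rat_iff hV g).1 (hr g) m' h1
  rw [pow_eq_pow_iff_modEq.2 h2] at h3
  exact h3

/-- `θ` on the `5`-regular elements is determined by the order and by `V (u s)` -/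
structure ThetaOf {G : Type*} [Group G] [Finite G] (V : G → ℂ) (u : G) (T : Subgroup G) (θ : T → ℂ)
    (F : ℕ → ℤ → ℤ) : Prop where
  irr : IsIrrCharacter T θ
  val : ∀ s : T, ¬ 5 ∣ orderOf s → ∃ b : ℤ, V (u * s) = b ∧ θ s = (F (orderOf s) b : ℤ)

/-- invariance -/
theorem ThetaOf.inv {G : Type*} [Group G] [Finite G] {V : G → ℂ} (hV : IsCharacter G V) (hr : ∀ g, ∃ q : ℚ, V g = q)
    {u : G} (hu : orderOf u = 5) {T : Subgroup G} (hc : ∀ s : T, Commute u (s : G)) {θ : T → ℂ} {F : ℕ → ℤ → ℤ}
    (h : ThetaOf V u T θ F) {g : G} (hg : g ∈ Subgroup.normalizer ((Subgroup.zpowers u : Subgroup G) : Set G))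
    {s s' : T} (hs : ¬ 5 ∣ orderOf s) (he : (s' : G) = g * s * g⁻¹) : θ s' = θ s := by
  have ho : orderOf s' = orderOf s := by
    rw [← Subgroup.orderOf_coe, ← Subgroup.orderOf_coe, he]
    exact orderOf_injective (MulAut.conj g).toMonoidHom (MulAut.conj g).injective (s : G)
  -- `g⁻¹ u g = u ^ k`
  have h1 : g⁻¹ * u * g ∈ Subgroup.zpowers u := by
    have := (Subgroup.mem_normalizer_iff.1 hg (g⁻¹ * u * g)).2 (by
      have : g * (g⁻¹ * u * g) * g⁻¹ = u := by group
      rw [this]
      exact Subgroup.mem_zpowers u)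
    exact this
  obtain ⟨k, hk⟩ := mem_powers_iff_mem_zpowers.2 h1
  have hk : u ^ k = g⁻¹ * u * g := hk
  have hk5 : ¬ 5 ∣ k := by
    rintro ⟨j, rfl⟩
    rw [pow_mul, ← hu, pow_orderOf_eq_one, one_pow] at hk
    have : u = 1 := by
      have h2 : g⁻¹ * u * g = 1 := hk.symm
      calc u = g * (g⁻¹ * u * g) * g⁻¹ := by group
        _ = 1 := by rw [h2]; group
    rw [this, orderOf_one] at hu
    norm_num at hu
  have hcop : Nat.Coprime 5 (orderOf s) := (Nat.Prime.coprime_iff_not_dvd Nat.prime_five).2 hs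
  obtain ⟨m, hm1, hm2⟩ := Nat.chineseRemainder hcop k 1
  have hpow : (u * (s : G)) ^ m = u ^ k * s := by
    rw [(hc s).mul_pow]
    congr 1
    · rw [pow_eq_pow_iff_modEq, hu]
      exact hm1
    · have : (s : G) ^ m = (s : G) ^ 1 := by
        rw [pow_eq_pow_iff_modEq, Subgroup.orderOf_coe]
        exact hm2
      rw [this, pow_one]
  have hmc : m.Coprime (orderOf (u * (s : G))) := by
    have h3 : orderOf (u * (s : G)) ∣ 5 * orderOf s := by
      have h4 := (hc s).orderOf_mul_dvd_mul_orderOf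
      rw [hu, Subgroup.orderOf_coe] at h4
      exact h4
    refine Nat.Coprime.coprime_dvd_right h3 (Nat.Coprime.mul_right ?_ ?_)
    · rw [Nat.coprime_comm, Nat.Prime.coprime_iff_not_dvd Nat.prime_five]
      intro h5
      exact hk5 ((Nat.ModEq.dvd_iff hm1 dvd_rfl).1 h5)
    · have h4 := Nat.ModEq.gcd_eq hm2
      rw [Nat.gcd_one_left] at h4
      rw [Nat.Coprime]
      exact h4
  have hVV : V (u * (s' : G)) = V (u * (s : G)) := by
    have h5 : u * (s' : G) = g * (u ^ k * s) * g⁻¹ := by
      rw [he, hk]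
      group
    rw [h5, isCharacter_isClassFunction hV, ← hpow]
    exact rat_pow hV hr hmc
  obtain ⟨b, hb, hθ⟩ := h.val s hs
  obtain ⟨b', hb', hθ'⟩ := h.val s' (by rw [ho]; exact hs)
  rw [hVV, hb] at hb'
  have h6 : b = b' := by exact_mod_cast hb'
  rw [hθ, hθ', ho, h6]

/-- **`Five` from the local part and `θ`.** -/
theorem five_of {u : MG} {C T : Subgroup MG} {t y : T} (L : H66.M23.Five.Local u C T t y) [Finite MG]
    (hcard : Nat.card MG = 808017424794512875886459904961710757005754368000000000) {V : MG → ℂ} (hV : IsCharacter MG V)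
    (hr : ∀ g, ∃ q : ℚ, V g = q) {θ : T → ℂ} {F : ℕ → ℤ → ℤ} (h : ThetaOf V u T θ F) (h1 : V u = 133)
    (f1 : F 1 133 = 2375000) (ht : V (u * t) = 21) (f2 : F 2 21 = -1000) (hy : V (u * y) = 1) (f3 : F 11 1 = 1)
    (hty : V (u * (t * y : T)) = -1) (f4 : F 22 (-1) = 1) : Five u C T θ t y := by
  have hp5 : Fact (Nat.Prime 5) := ⟨Nat.prime_five⟩
  obtain ⟨M, hM⟩ := Cfsg.Agent.Blocks.ExistsModular.exists_isPModular Nat.prime_five
  have hc : ∀ s : T, Commute u (s : MG) := fun s => by
    have h2 : (s : MG) ∈ Subgroup.centralizer ({u} : Set MG) := by rw [← L.cent]; exact L.le s.2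
    exact (Subgroup.mem_centralizer_singleton_iff.1 h2).symm
  have hone : θ 1 = 2375000 := by
    obtain ⟨b, hb, hθ⟩ := h.val 1 (by rw [orderOf_one]; norm_num)
    rw [OneMemClass.coe_one, mul_one, h1] at hb
    have h2 : b = 133 := by exact_mod_cast hb.symm
    rw [hθ, orderOf_one, h2, f1]
    norm_num
  have hdeg : (charDegree θ).factorization 5 = (Nat.card T).factorization 5 := by
    rw [charDegree_of_eq (n := 2375000) (by rw [hone]; norm_num), L.cardT]
    have e1 : (2375000 : ℕ) = 5 ^ 6 * 152 := by norm_num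
    have e2 : (273030912000000 : ℕ) = 5 ^ 6 * 17473978368 := by norm_num
    rw [e1, e2, Nat.factorization_mul (by norm_num) (by norm_num), Nat.factorization_mul (by norm_num) (by norm_num)]
    rw [Nat.Prime.factorization_pow Nat.prime_five]
    simp [Nat.factorization_eq_zero_of_not_dvd]
  have hzero : ∀ s : T, 5 ∣ orderOf s → θ s = 0 := fun s hs =>
    Cfsg.Agent.H66.LD.Three.eq_zero_of_dvd hM ⟨θ, h.irr⟩ hdeg hs
  refine
    { cardG := hcard
      hyp :=
        { ord := L.ord
          cent := L.cent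
          le := L.le
          card := L.card
          notMem := L.notMem
          pows := L.pows
          norm := L.norm
          irr := h.irr
          deg := hdeg
          inv := ?_ }
      cardT := L.cardT
      one := hone
      real := ?_
      ot := L.ot
      ct := L.ct
      num := L.num
      val := ?_
      oy := L.oy
      comm := L.comm
      vy := ?_
      vty := ?_ }
  · intro g hg s s' he
    by_cases hs : 5 ∣ orderOf s
    · have ho : orderOf (s' : MG) = orderOf (s : MG) := by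
        rw [he]
        exact orderOf_injective (MulAut.conj g).toMonoidHom (MulAut.conj g).injective (s : MG)
      rw [Subgroup.orderOf_coe, Subgroup.orderOf_coe] at ho
      rw [hzero s hs, hzero s' (by rw [ho]; exact hs)]
    · exact h.inv hV hr L.ord hc hg hs he
  · intro s
    by_cases hs : 5 ∣ orderOf s
    · rw [hzero s hs, map_zero]
    · obtain ⟨b, -, hθ⟩ := h.val s hs
      rw [hθ]
      simp
  · intro s hs
    obtain ⟨g, hg⟩ := isConj_iff.1 ((L.fus s).1 hs)
    rw [← hg, isIrr_isClassFunction h.irr]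
    obtain ⟨b, hb, hθ⟩ := h.val t (by rw [L.ot]; norm_num)
    rw [ht] at hb
    have h2 : b = 21 := by exact_mod_cast hb.symm
    rw [hθ, L.ot, h2, f2]
    norm_num
  · obtain ⟨b, hb, hθ⟩ := h.val y (by rw [L.oy]; norm_num)
    rw [hy] at hb
    have h2 : b = 1 := by exact_mod_cast hb.symm
    rw [hθ, L.oy, h2, f3]
    norm_num
  · have ho : orderOf (t * y) = 22 := by
      rw [L.comm.orderOf_mul_eq_mul_orderOf_of_coprime (by rw [L.ot, L.oy]; norm_num), L.ot, L.oy]
    obtain ⟨b, hb, hθ⟩ := h.val (t * y) (by rw [ho]; norm_num)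
    rw [hty] at hb
    have h2 : b = -1 := by exact_mod_cast hb.symm
    rw [hθ, ho, h2, f4]
    norm_num

end Cfsg.Agent.H691.M23
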