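import Cfsg.Agent.H691.M23.FinalOf
import Cfsg.Agent.H616.M23.Base
import Cfsg.Agent.H592.HN.Final
import Cfsg.Agent.H741.M23.RhoHN

/-!
# (M,23): `ThetaTarget` from the class table of `HN` (helper691; pieces of helper592, 616, 741, 136, 66, 717, 164, 641)
-/

set_option autoImplicit false
set_option maxRecDepth 100000

open Cfsg
open Cfsg.Agent.H651.HNF

namespace Cfsg.Agent.H691.M23

open Cfsg.Agent.BpSpor.MBigModel (MG)
open Cfsg.Agent.H875.M23.TraceChar (chi)

theorem theta_target_of {ty : Spor.HN → H651.HNF.Ty} (tab : H651.HNF.Table Spor.HN ty) : ThetaTarget := by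
  have hfin : Finite MG := Cfsg.Agent.BpSpor.MBigModel.finite
  obtain ⟨u, C, T, t, y, L, -, e, b, hb, hbv⟩ := H616.M23.base_values tab
  refine ⟨u, C, T, t, y, L, ?_⟩
  intro _
  obtain ⟨θ, hθ, h1, h2, h3, h4, hm⟩ := H592.HN.final L e tab hb hbv
    fun β h1 h2 => H741.M23.Gen.gen_theta_iso (MulEquiv.refl _) tab h1 h2
  exact ⟨θ, H592.HN.F, hθ, by decide, by decide, by decide, by decide, h1, h2, h3, h4, hm⟩

end Cfsg.Agent.H691.M23
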